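import Cfsg.Agent.H35.Fi24T.Y5V1.RChk0
import Cfsg.Agent.H35.Fi24T.Y5V1.RChk1
import Cfsg.Agent.H35.Fi24T.Y5V1.RChk2
import Cfsg.Agent.H35.Fi24T.Y5V1.RChk3
import Cfsg.Agent.H35.Fi24T.Y5V1.RChk4
import Cfsg.Agent.H35.Fi24T.Y5V1.RChk5
import Cfsg.Agent.H35.Fi24T.Y5V1.RChk6
import Cfsg.Agent.H35.Fi24T.Y5V1.RChk7

set_option autoImplicit false
set_option linter.all false

namespace Cfsg.Agent.H35

open Cfsg.Spor

theorem y5v1_rall : ∀ p, p < 39106 → y5v1_rf p = true := by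
  apply allR_blocks y5v1_rf 39106 8 153 _ (by decide)
  intro k hk
  interval_cases k
  · exact y5v1_rchk_0
  · exact y5v1_rchk_1
  · exact y5v1_rchk_2
  · exact y5v1_rchk_3
  · exact y5v1_rchk_4
  · exact y5v1_rchk_5
  · exact y5v1_rchk_6
  · exact y5v1_rchk_7
  · exact y5v1_rchk_8
  · exact y5v1_rchk_9
  · exact y5v1_rchk_10
  · exact y5v1_rchk_11
  · exact y5v1_rchk_12
  · exact y5v1_rchk_13
  · exact y5v1_rchk_14
  · exact y5v1_rchk_15
  · exact y5v1_rchk_16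
  · exact y5v1_rchk_17
  · exact y5v1_rchk_18
  · exact y5v1_rchk_19
  · exact y5v1_rchk_20
  · exact y5v1_rchk_21
  · exact y5v1_rchk_22
  · exact y5v1_rchk_23
  · exact y5v1_rchk_24
  · exact y5v1_rchk_25
  · exact y5v1_rchk_26
  · exact y5v1_rchk_27
  · exact y5v1_rchk_28
  · exact y5v1_rchk_29
  · exact y5v1_rchk_30
  · exact y5v1_rchk_31
  · exact y5v1_rchk_32
  · exact y5v1_rchk_33
  · exact y5v1_rchk_34
  · exact y5v1_rchk_35
  · exact y5v1_rchk_36
  · exact y5v1_rchk_37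
  · exact y5v1_rchk_38
  · exact y5v1_rchk_39
  · exact y5v1_rchk_40
  · exact y5v1_rchk_41
  · exact y5v1_rchk_42
  · exact y5v1_rchk_43
  · exact y5v1_rchk_44
  · exact y5v1_rchk_45
  · exact y5v1_rchk_46
  · exact y5v1_rchk_47
  · exact y5v1_rchk_48
  · exact y5v1_rchk_49
  · exact y5v1_rchk_50
  · exact y5v1_rchk_51
  · exact y5v1_rchk_52
  · exact y5v1_rchk_53
  · exact y5v1_rchk_54
  · exact y5v1_rchk_55
  · exact y5v1_rchk_56
  · exact y5v1_rchk_57
  · exact y5v1_rchk_58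
  · exact y5v1_rchk_59
  · exact y5v1_rchk_60
  · exact y5v1_rchk_61
  · exact y5v1_rchk_62
  · exact y5v1_rchk_63
  · exact y5v1_rchk_64
  · exact y5v1_rchk_65
  · exact y5v1_rchk_66
  · exact y5v1_rchk_67
  · exact y5v1_rchk_68
  · exact y5v1_rchk_69
  · exact y5v1_rchk_70
  · exact y5v1_rchk_71
  · exact y5v1_rchk_72
  · exact y5v1_rchk_73
  · exact y5v1_rchk_74
  · exact y5v1_rchk_75
  · exact y5v1_rchk_76
  · exact y5v1_rchk_77
  · exact y5v1_rchk_78
  · exact y5v1_rchk_79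
  · exact y5v1_rchk_80
  · exact y5v1_rchk_81
  · exact y5v1_rchk_82
  · exact y5v1_rchk_83
  · exact y5v1_rchk_84
  · exact y5v1_rchk_85
  · exact y5v1_rchk_86
  · exact y5v1_rchk_87
  · exact y5v1_rchk_88
  · exact y5v1_rchk_89
  · exact y5v1_rchk_90
  · exact y5v1_rchk_91
  · exact y5v1_rchk_92
  · exact y5v1_rchk_93
  · exact y5v1_rchk_94
  · exact y5v1_rchk_95
  · exact y5v1_rchk_96
  · exact y5v1_rchk_97
  · exact y5v1_rchk_98
  · exact y5v1_rchk_99
  · exact y5v1_rchk_100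
  · exact y5v1_rchk_101
  · exact y5v1_rchk_102
  · exact y5v1_rchk_103
  · exact y5v1_rchk_104
  · exact y5v1_rchk_105
  · exact y5v1_rchk_106
  · exact y5v1_rchk_107
  · exact y5v1_rchk_108
  · exact y5v1_rchk_109
  · exact y5v1_rchk_110
  · exact y5v1_rchk_111
  · exact y5v1_rchk_112
  · exact y5v1_rchk_113
  · exact y5v1_rchk_114
  · exact y5v1_rchk_115
  · exact y5v1_rchk_116
  · exact y5v1_rchk_117
  · exact y5v1_rchk_118
  · exact y5v1_rchk_119
  · exact y5v1_rchk_120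
  · exact y5v1_rchk_121
  · exact y5v1_rchk_122
  · exact y5v1_rchk_123
  · exact y5v1_rchk_124
  · exact y5v1_rchk_125
  · exact y5v1_rchk_126
  · exact y5v1_rchk_127
  · exact y5v1_rchk_128
  · exact y5v1_rchk_129
  · exact y5v1_rchk_130
  · exact y5v1_rchk_131
  · exact y5v1_rchk_132
  · exact y5v1_rchk_133
  · exact y5v1_rchk_134
  · exact y5v1_rchk_135
  · exact y5v1_rchk_136
  · exact y5v1_rchk_137
  · exact y5v1_rchk_138
  · exact y5v1_rchk_139
  · exact y5v1_rchk_140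
  · exact y5v1_rchk_141
  · exact y5v1_rchk_142
  · exact y5v1_rchk_143
  · exact y5v1_rchk_144
  · exact y5v1_rchk_145
  · exact y5v1_rchk_146
  · exact y5v1_rchk_147
  · exact y5v1_rchk_148
  · exact y5v1_rchk_149
  · exact y5v1_rchk_150
  · exact y5v1_rchk_151
  · exact y5v1_rchk_152

theorem y5v1_circ_ok : circChk (fullW y5v1_rws y5v1_prels) y5v1_circT 0 y5v1_ccert = true := by decide +kernel
theorem y5v1_hc_ok : allR (fun c => hcChk y5v1_rsw y5v1_hc1T y5v1_hc2T c) 9 4 0 = true := by decide +kernel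
theorem y5v1_h0 : RData.aord (y5v1_rd.ent 0 1) = 0 := by decide +kernel

end Cfsg.Agent.H35
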