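import Cfsg.Agent.H35.Fi24T.Y5V1.RTab0
import Cfsg.Agent.H35.Fi24T.Y5V1.RTab1

set_option autoImplicit false
set_option linter.all false

namespace Cfsg.Agent.H35

open Cfsg.Spor

noncomputable def y5v1_rrowT : ℕ → ℕ := (nd 19456 (nd 9728 (nd 4864 (nd 2304 (nd 1024 (nd 512 (nd 256 y5v1_rrowT_c0 y5v1_rrowT_c1) (nd 768 y5v1_rrowT_c2 y5v1_rrowT_c3)) (nd 1536 (nd 1280 y5v1_rrowT_c4 y5v1_rrowT_c5) (nd 1792 y5v1_rrowT_c6 (nd 2048 y5v1_rrowT_c7 y5v1_rrowT_c8)))) (nd 3584 (nd 2816 (nd 2560 y5v1_rrowT_c9 y5v1_rrowT_c10) (nd 3072 y5v1_rrowT_c11 (nd 3328 y5v1_rrowT_c12 y5v1_rrowT_c13))) (nd 4096 (nd 3840 y5v1_rrowT_c14 y5v1_rrowT_c15) (nd 4352 y5v1_rrowT_c16 (nd 4608 y5v1_rrowT_c17 y5v1_rrowT_c18))))) (nd 7168 (nd 5888 (nd 5376 (nd 5120 y5v1_rrowT_c19 y5v1_rrowT_c20) (nd 5632 y5v1_rrowT_c21 y5v1_rrowT_c22)) (nd 6400 (nd 6144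 y5v1_rrowT_c23 y5v1_rrowT_c24) (nd 6656 y5v1_rrowT_c25 (nd 6912 y5v1_rrowT_c26 y5v1_rrowT_c27)))) (nd 8448 (nd 7680 (nd 7424 y5v1_rrowT_c28 y5v1_rrowT_c29) (nd 7936 y5v1_rrowT_c30 (nd 8192 y5v1_rrowT_c31 y5v1_rrowT_c32))) (nd 8960 (nd 8704 y5v1_rrowT_c33 y5v1_rrowT_c34) (nd 9216 y5v1_rrowT_c35 (nd 9472 y5v1_rrowT_c36 y5v1_rrowT_c37)))))) (nd 14592 (nd 12032 (nd 10752 (nd 10240 (nd 9984 y5v1_rrowT_c38 y5v1_rrowT_c39) (nd 10496 y5v1_rrowT_c40 y5v1_rrowT_c41)) (nd 11264 (nd 11008 y5v1_rrowT_c42 y5v1_rrowT_c43) (nd 11520 y5v1_rrowT_c44 (nd 11776 y5v1_rrowT_c45 y5v1_rrowT_c46)))) (nd 13312 (nd 12544 (nd 12288 y5v1_rrowT_c47 y5v1_rrowT_c48) (nd 12800 y5v1_rrowT_c49 (nd 13056 y5v1_rrowT_c50 y5v1_rrowT_c51))) (nd 13824 (nd 13568 y5v1_rrowT_c52 y5v1_rrowT_c53) (nd 14080 y5v1_rrowT_c54 (nd 14336 y5v1_rrowT_c55 y5v1_rrowT_c56)))))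 (nd 16896 (nd 15616 (nd 15104 (nd 14848 y5v1_rrowT_c57 y5v1_rrowT_c58) (nd 15360 y5v1_rrowT_c59 y5v1_rrowT_c60)) (nd 16128 (nd 15872 y5v1_rrowT_c61 y5v1_rrowT_c62) (nd 16384 y5v1_rrowT_c63 (nd 16640 y5v1_rrowT_c64 y5v1_rrowT_c65)))) (nd 18176 (nd 17408 (nd 17152 y5v1_rrowT_c66 y5v1_rrowT_c67) (nd 17664 y5v1_rrowT_c68 (nd 17920 y5v1_rrowT_c69 y5v1_rrowT_c70))) (nd 18688 (nd 18432 y5v1_rrowT_c71 y5v1_rrowT_c72) (nd 18944 y5v1_rrowT_c73 (nd 19200 y5v1_rrowT_c74 y5v1_rrowT_c75))))))) (nd 29184 (nd 24320 (nd 21760 (nd 20480 (nd 19968 (nd 19712 y5v1_rrowT_c76 y5v1_rrowT_c77) (nd 20224 y5v1_rrowT_c78 y5v1_rrowT_c79)) (nd 20992 (nd 20736 y5v1_rrowT_c80 y5v1_rrowT_c81) (nd 21248 y5v1_rrowT_c82 (nd 21504 y5v1_rrowT_c83 y5v1_rrowT_c84)))) (nd 23040 (nd 22272 (nd 22016 y5v1_rrowT_c85 y5v1_rrowT_c86) (nd 22528 y5v1_rrowT_c87 (nd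 22784 y5v1_rrowT_c88 y5v1_rrowT_c89))) (nd 23552 (nd 23296 y5v1_rrowT_c90 y5v1_rrowT_c91) (nd 23808 y5v1_rrowT_c92 (nd 24064 y5v1_rrowT_c93 y5v1_rrowT_c94))))) (nd 26624 (nd 25344 (nd 24832 (nd 24576 y5v1_rrowT_c95 y5v1_rrowT_c96) (nd 25088 y5v1_rrowT_c97 y5v1_rrowT_c98)) (nd 25856 (nd 25600 y5v1_rrowT_c99 y5v1_rrowT_c100) (nd 26112 y5v1_rrowT_c101 (nd 26368 y5v1_rrowT_c102 y5v1_rrowT_c103)))) (nd 27904 (nd 27136 (nd 26880 y5v1_rrowT_c104 y5v1_rrowT_c105) (nd 27392 y5v1_rrowT_c106 (nd 27648 y5v1_rrowT_c107 y5v1_rrowT_c108))) (nd 28416 (nd 28160 y5v1_rrowT_c109 y5v1_rrowT_c110) (nd 28672 y5v1_rrowT_c111 (nd 28928 y5v1_rrowT_c112 y5v1_rrowT_c113)))))) (nd 34048 (nd 31488 (nd 30208 (nd 29696 (nd 29440 y5v1_rrowT_c114 y5v1_rrowT_c115) (nd 29952 y5v1_rrowT_c116 y5v1_rrowT_c117)) (nd 30720 (nd 30464 y5v1_rrowT_c118 y5v1_rrowT_c119)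 (nd 30976 y5v1_rrowT_c120 (nd 31232 y5v1_rrowT_c121 y5v1_rrowT_c122)))) (nd 32768 (nd 32000 (nd 31744 y5v1_rrowT_c123 y5v1_rrowT_c124) (nd 32256 y5v1_rrowT_c125 (nd 32512 y5v1_rrowT_c126 y5v1_rrowT_c127))) (nd 33280 (nd 33024 y5v1_rrowT_c128 y5v1_rrowT_c129) (nd 33536 y5v1_rrowT_c130 (nd 33792 y5v1_rrowT_c131 y5v1_rrowT_c132))))) (nd 36608 (nd 35328 (nd 34560 (nd 34304 y5v1_rrowT_c133 y5v1_rrowT_c134) (nd 34816 y5v1_rrowT_c135 (nd 35072 y5v1_rrowT_c136 y5v1_rrowT_c137))) (nd 35840 (nd 35584 y5v1_rrowT_c138 y5v1_rrowT_c139) (nd 36096 y5v1_rrowT_c140 (nd 36352 y5v1_rrowT_c141 y5v1_rrowT_c142)))) (nd 37888 (nd 37120 (nd 36864 y5v1_rrowT_c143 y5v1_rrowT_c144) (nd 37376 y5v1_rrowT_c145 (nd 37632 y5v1_rrowT_c146 y5v1_rrowT_c147))) (nd 38400 (nd 38144 y5v1_rrowT_c148 y5v1_rrowT_c149) (nd 38656 y5v1_rrowT_c150 (nd 38912 y5v1_rrowT_c151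 y5v1_rrowT_c152))))))))

noncomputable def y5v1_circT_c0 : ℕ → List Fi24.Gen := (nd 32 (nd 16 (nd 8 (nd 4 (nd 2 (nd 1 (lf [.g]) (lf [.j])) (nd 3 (lf [.l, .i, .l, .i]) (lf [.k, .i, .k, .i]))) (nd 6 (nd 5 (lf [.a, .i, .a, .i]) (lf [.b, .i, .b, .i])) (nd 7 (lf [.c, .i, .c, .i]) (lf [.d, .i, .d, .i])))) (nd 12 (nd 10 (nd 9 (lf [.e, .i, .e, .i]) (lf [.f, .i, .f, .i])) (nd 11 (lf [.l, .h, .l, .h]) (lf [.k, .h, .k, .h]))) (nd 14 (nd 13 (lf [.a, .h, .a, .h]) (lf [.b, .h, .b, .h])) (nd 15 (lf [.c, .h, .c, .h]) (lf [.e, .h, .e, .h]))))) (nd 24 (nd 20 (nd 18 (nd 17 (lf [.f, .h, .f, .h]) (lf [.i, .h, .i, .h, .i, .h])) (nd 19 (lf [.l, .d, .l, .d]) (lf [.k, .d, .k, .d]))) (nd 22 (nd 21 (lf [.a, .d, .a, .d]) (lf [.b, .d, .b, .d])) (nd 23 (lf [.f, .d, .f, .d]) (lf [.h, .d, .h, .d, .h, .d])))) (nd 28 (nd 26 (nd 25 (lf [.i, .d, .i,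 .d]) (lf [.l, .c, .l, .c])) (nd 27 (lf [.k, .c, .k, .c]) (lf [.a, .c, .a, .c]))) (nd 30 (nd 29 (lf [.d, .c, .d, .c, .d, .c]) (lf [.f, .c, .f, .c])) (nd 31 (lf [.h, .c, .h, .c]) (lf [.i, .c, .i, .c])))))) (nd 48 (nd 40 (nd 36 (nd 34 (nd 33 (lf [.l, .e, .l, .e]) (lf [.k, .e, .k, .e])) (nd 35 (lf [.a, .e, .a, .e]) (lf [.b, .e, .b, .e]))) (nd 38 (nd 37 (lf [.d, .e, .d, .e, .d, .e]) (lf [.h, .e, .h, .e])) (nd 39 (lf [.i, .e, .i, .e]) (lf [.l, .b, .l, .b])))) (nd 44 (nd 42 (nd 41 (lf [.k, .b, .k, .b]) (lf [.c, .b, .c, .b, .c, .b])) (nd 43 (lf [.d, .b, .d, .b]) (lf [.f, .b, .f, .b]))) (nd 46 (nd 45 (lf [.h, .b, .h, .b]) (lf [.i, .b, .i, .b])) (nd 47 (lf [.c, .e, .c, .e]) (lf [.c, .c]))))) (nd 56 (nd 52 (nd 50 (nd 49 (lf [.l, .f, .l, .f]) (lf [.k, .f, .k, .f])) (nd 51 (lf [.a, .f, .a, .f]) (lf [.b, .f, .b, .f]))) (nd 54 (nd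 53 (lf [.d, .f, .d, .f]) (lf [.e, .f, .e, .f, .e, .f])) (nd 55 (lf [.h, .f, .h, .f]) (lf [.i, .f, .i, .f])))) (nd 60 (nd 58 (nd 57 (lf [.l, .a, .l, .a]) (lf [.b, .a, .b, .a, .b, .a])) (nd 59 (lf [.c, .a, .c, .a]) (lf [.d, .a, .d, .a]))) (nd 62 (nd 61 (lf [.f, .a, .f, .a]) (lf [.h, .a, .h, .a])) (nd 63 (lf [.i, .a, .i, .a]) (lf [.b, .b])))))))
noncomputable def y5v1_circT_c1 : ℕ → List Fi24.Gen := (nd 93 (nd 78 (nd 71 (nd 67 (nd 65 (lf [.c, .d, .c, .d, .c, .d]) (nd 66 (lf [.e, .d, .e, .d, .e, .d]) (lf [.c, .f, .c, .f]))) (nd 69 (nd 68 (lf [.a, .k, .a, .k, .a, .k]) (lf [.b, .k, .b, .k])) (nd 70 (lf [.c, .k, .c, .k]) (lf [.d, .k, .d, .k])))) (nd 74 (nd 72 (lf [.f, .k, .f, .k]) (nd 73 (lf [.h, .k, .h, .k]) (lf [.i, .k, .i, .k]))) (nd 76 (nd 75 (lf [.a, .a]) (lf [.d, .d])) (nd 77 (lf [.d, .h, .d, .h, .d, .h]) (lf [.k,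 .l, .k, .l, .k, .l]))))) (nd 85 (nd 81 (nd 79 (lf [.a, .l, .a, .l]) (nd 80 (lf [.b, .l, .b, .l]) (lf [.c, .l, .c, .l]))) (nd 83 (nd 82 (lf [.d, .l, .d, .l]) (lf [.f, .l, .f, .l])) (nd 84 (lf [.h, .l, .h, .l]) (lf [.i, .l, .i, .l])))) (nd 89 (nd 87 (nd 86 (lf [.k, .k]) (lf [.b, .c, .b, .c, .b, .c])) (nd 88 (lf [.e, .c, .e, .c]) (lf [.f, .e, .f, .e, .f, .e]))) (nd 91 (nd 90 (lf [.f, .f]) (lf [.h, .i, .h, .i, .h, .i])) (nd 92 (lf [.l, .l]) (lf [.e, .e])))))) (nd 108 (nd 100 (nd 96 (nd 94 (lf [.a, .b, .a, .b, .a, .b]) (nd 95 (lf [.e, .b, .e, .b]) (lf [.k, .a, .k, .a, .k, .a]))) (nd 98 (nd 97 (lf [.e, .a, .e, .a]) (lf [.h, .h])) (nd 99 (lf [.l, .k, .l, .k, .l, .k]) (lf [.e, .k, .e, .k])))) (nd 104 (nd 102 (nd 101 (lf [.i, .i]) (lf [.e, .l, .e, .l])) (nd 103 (lf [.b, .a, .h, .f, .e, .d, .c, .b, .a, .h, .f, .e, .d, .c, .b,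 .a, .h, .f, .e, .d, .c, .b, .a, .h, .f, .e, .d, .c, .b, .a, .h, .f, .e, .d, .c, .b, .a, .h, .f, .e, .d, .c, .b, .a, .h, .f, .e, .d, .c, .b, .a, .h, .f, .e, .d, .c, .b, .a, .l, .h, .f, .e, .d, .c]) (lf [.c, .b, .a, .h, .f, .e, .d, .c, .b, .a, .h, .f, .e, .d, .c, .b, .a, .h, .f, .e, .d, .c, .b, .a, .h, .f, .e, .d, .c, .b, .a, .h, .f, .e, .d, .c, .b, .a, .h, .f, .e, .d, .c, .b, .a, .h, .f, .e, .d, .c, .b, .a, .h, .f, .e, .d, .c, .b, .a, .l, .h, .f, .e, .d]))) (nd 106 (nd 105 (lf [.a, .l, .h, .f, .e, .d, .c, .b, .a, .h, .f, .e, .d, .c, .b, .a, .h, .f, .e, .d, .c, .b, .a, .h, .f, .e, .d, .c, .b, .a, .h, .f, .e, .d, .c, .b, .a, .h, .f, .e, .d, .c, .b, .a, .h, .f, .e, .d, .c, .b, .a, .h, .f, .e, .d, .c, .b, .a, .h, .f, .e, .d, .c, .b]) (lf [.d, .c, .b, .a, .h, .f, .e, .d, .c, .b, .a, .h, .f, .e, .d, .c, .b, .a, .h, .f, .e,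 .d, .c, .b, .a, .h, .f, .e, .d, .c, .b, .a, .h, .f, .e, .d, .c, .b, .a, .h, .f, .e, .d, .c, .b, .a, .h, .f, .e, .d, .c, .b, .a, .h, .f, .e, .d, .c, .b, .a, .l, .h, .f, .e])) (nd 107 (lf [.e, .f, .h, .l, .a, .b, .c, .d, .e, .f, .h, .a, .b, .c, .d, .e, .f, .h, .a, .b, .c, .d, .e, .f, .h, .a, .b, .c, .d, .e, .f, .h, .a, .b, .c, .d, .e, .f, .h, .a, .b, .c, .d, .e, .f, .h, .a, .b, .c, .d, .e, .f, .h, .a, .b, .c, .d, .e, .f, .h, .a, .b, .c, .d]) (lf [.f, .h, .a, .b, .c, .d, .e, .f, .h, .a, .b, .c, .d, .e, .f, .h, .a, .b, .c, .d, .e, .f, .h, .a, .b, .c, .d, .e, .f, .h, .a, .b, .c, .d, .e, .f, .h, .a, .b, .c, .d, .e, .f, .h, .a, .b, .c, .d, .e, .f, .h, .a, .b, .c, .d, .e, .f, .h, .l, .a, .b, .c, .d, .e]))))) (nd 115 (nd 111 (nd 109 (lf [.h, .a, .b, .c, .d, .e, .f, .h, .a, .b, .c, .d, .e, .f, .h, .a, .b, .c, .d, .e, .f, .h,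 .a, .b, .c, .d, .e, .f, .h, .a, .b, .c, .d, .e, .f, .h, .a, .b, .c, .d, .e, .f, .h, .a, .b, .c, .d, .e, .f, .h, .a, .b, .c, .d, .e, .f, .h, .l, .a, .b, .c, .d, .e, .f]) (nd 110 (lf [.d, .e, .f, .h, .a, .b, .c, .d, .e, .f, .h, .a, .b, .c, .d, .e, .f, .h, .a, .b, .c, .d, .e, .f, .h, .a, .b, .c, .d, .e, .f, .h, .a, .b, .c, .d, .e, .f, .h, .a, .b, .c, .d, .e, .f, .h, .a, .b, .c, .d, .e, .f, .h, .a, .b, .c, .d, .e, .f, .h, .l, .a, .b, .c]) (lf [.c, .b, .a, .h, .f, .e, .d, .c, .b, .a, .h, .f, .e, .d, .c, .b, .a, .h, .f, .e, .d, .c, .b, .a, .h, .f, .e, .d, .c, .b, .a, .l, .h, .f, .e, .d, .c, .b, .a, .h, .f, .e, .d, .c, .b, .a, .h, .f, .e, .d, .c, .b, .a, .h, .f, .e, .d, .c, .b, .a, .h, .f, .e, .d]))) (nd 113 (nd 112 (lf [.h, .f, .e, .d, .c, .b, .a, .h, .f, .e, .d, .c, .b, .a, .h, .f, .e, .d, .c, .b, .a, .h, .f, .e, .d, .c,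 .b, .a, .h, .f, .e, .d, .c, .b, .a, .h, .f, .e, .d, .c, .b, .a, .h, .f, .e, .d, .c, .b, .a, .h, .f, .e, .d, .c, .b, .a, .l, .h, .f, .e, .d, .c, .b, .a]) (lf [.d, .e, .f, .h, .a, .b, .c, .d, .e, .f, .h, .a, .b, .c, .d, .e, .f, .h, .a, .b, .c, .d, .e, .f, .h, .a, .b, .c, .d, .e, .f, .h, .a, .b, .c, .d, .e, .f, .h, .l, .a, .b, .c, .d, .e, .f, .h, .a, .b, .c, .d, .e, .f, .h, .a, .b, .c, .d, .e, .f, .h, .a, .b, .c])) (nd 114 (lf [.c, .d, .e, .f, .h, .a, .b, .c, .d, .e, .f, .h, .a, .b, .c, .d, .e, .f, .h, .a, .b, .c, .d, .e, .f, .h, .a, .b, .c, .d, .e, .f, .h, .a, .b, .c, .d, .e, .f, .h, .a, .b, .c, .d, .e, .f, .h, .a, .b, .c, .d, .e, .f, .h, .a, .b, .c, .d, .e, .f, .h, .l, .a, .b]) (lf [.b, .a, .h, .f, .e, .d, .c, .b, .a, .l, .h, .f, .e, .d, .c, .b, .a, .h, .f, .e, .d, .c, .b, .a, .h, .f, .e, .d, .c, .b, .a, .h, .f, .e,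 .d, .c, .b, .a, .h, .f, .e, .d, .c, .b, .a, .h, .f, .e, .d, .c, .b, .a, .h, .f, .e, .d, .c, .b, .a, .h, .f, .e, .d, .c])))) (nd 119 (nd 117 (nd 116 (lf [.d, .c, .b, .a, .h, .f, .e, .d, .c, .b, .a, .h, .f, .e, .d, .c, .b, .a, .h, .f, .e, .d, .c, .b, .a, .h, .f, .e, .d, .c, .b, .a, .l, .h, .f, .e, .d, .c, .b, .a, .h, .f, .e, .d, .c, .b, .a, .h, .f, .e, .d, .c, .b, .a, .h, .f, .e, .d, .c, .b, .a, .h, .f, .e]) (lf [.f, .h, .a, .b, .c, .d, .e, .f, .h, .a, .b, .c, .d, .e, .f, .h, .a, .b, .c, .d, .e, .f, .h, .l, .a, .b, .c, .d, .e, .f, .h, .a, .b, .c, .d, .e, .f, .h, .a, .b, .c, .d, .e, .f, .h, .a, .b, .c, .d, .e, .f, .h, .a, .b, .c, .d, .e, .f, .h, .a, .b, .c, .d, .e])) (nd 118 (lf [.f, .h, .l, .a, .b, .c, .d, .e, .f, .h, .a, .b, .c, .d, .e, .f, .h, .a, .b, .c, .d, .e, .f, .h, .a, .b, .c, .d, .e, .f, .h, .a, .b, .c, .d,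 .e, .f, .h, .a, .b, .c, .d, .e, .f, .h, .a, .b, .c, .d, .e, .f, .h, .a, .b, .c, .d, .e, .f, .h, .a, .b, .c, .d, .e]) (lf [.e, .d, .c, .b, .a, .h, .f, .e, .d, .c, .b, .a, .h, .f, .e, .d, .c, .b, .a, .h, .f, .e, .d, .c, .b, .a, .h, .f, .e, .d, .c, .b, .a, .h, .f, .e, .d, .c, .b, .a, .h, .f, .e, .d, .c, .b, .a, .h, .f, .e, .d, .c, .b, .a, .h, .f, .e, .d, .c, .b, .a, .l, .h, .f]))) (nd 121 (nd 120 (lf [.d, .c, .b, .a, .h, .f, .e, .d, .c, .b, .a, .h, .f, .e, .d, .c, .b, .a, .h, .f, .e, .d, .c, .b, .a, .h, .f, .e, .d, .c, .b, .a, .h, .f, .e, .d, .c, .b, .a, .h, .f, .e, .d, .c, .b, .a, .h, .f, .e, .d, .c, .b, .a, .l, .h, .f, .e, .d, .c, .b, .a, .h, .f, .e]) (lf [.h, .f, .e, .d, .c, .b, .a, .h, .f, .e, .d, .c, .b, .a, .h, .f, .e, .d, .c, .b, .a, .h, .f, .e, .d, .c, .b, .a, .h, .f, .e, .d, .c, .b, .a, .h, .f, .e, .d, .c, .b,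 .a, .h, .f, .e, .d, .c, .b, .a, .h, .f, .e, .d, .c, .b, .a, .h, .f, .e, .d, .c, .b, .a, .l])) (nd 122 (lf [.a, .h, .f, .e, .d, .c, .b, .a, .h, .f, .e, .d, .c, .b, .a, .h, .f, .e, .d, .c, .b, .a, .h, .f, .e, .d, .c, .b, .a, .h, .f, .e, .d, .c, .b, .a, .h, .f, .e, .d, .c, .b, .a, .h, .f, .e, .d, .c, .b, .a, .h, .f, .e, .d, .c, .b, .a, .l, .h, .f, .e, .d, .c, .b]) (lf [.e, .f, .h, .a, .b, .c, .d, .e, .f, .h, .a, .b, .c, .d, .e, .f, .h, .a, .b, .c, .d, .e, .f, .h, .a, .b, .c, .d, .e, .f, .h, .a, .b, .c, .d, .e, .f, .h, .a, .b, .c, .d, .e, .f, .h, .a, .b, .c, .d, .e, .f, .h, .a, .b, .c, .d, .e, .f, .h, .l, .a, .b, .c, .d])))))))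
noncomputable def y5v1_circT : ℕ → List Fi24.Gen := (nd 64 y5v1_circT_c0 y5v1_circT_c1)
def y5v1_ccert : List (ℕ × ℕ × Bool) := [(101, 0, false), (102, 0, false), (9, 0, false), (19, 0, false), (29, 0, false), (39, 0, false), (49, 0, false), (59, 0, false), (69, 0, false), (79, 0, false), (8, 0, false), (18, 0, false), (28, 0, false), (38, 0, false), (48, 0, false), (68, 0, false), (78, 0, false), (89, 1, false), (5, 0, false), (15, 0, false), (25, 0, false), (35, 0, false), (57, 1, false), (58, 1, false), (59, 1, false), (4, 0, false), (14, 0, false), (24, 0, false), (45, 1, false), (47, 1, false), (48, 1, false), (49, 1, false), (6, 0, false), (16, 0, false), (26, 0, false), (36, 0, false), (56, 0, false), (68, 1, false), (69, 1, false), (3, 0, false), (13, 0, false), (34, 1, false), (35, 1, false), (37, 1, false),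 (38, 1, false), (39, 1, false), (46, 0, false), (44, 0, false), (7, 0, false), (17, 0, false), (27, 0, false), (37, 0, false), (57, 0, false), (67, 0, false), (78, 1, false), (79, 1, false), (2, 0, false), (23, 1, false), (24, 1, false), (25, 1, false), (27, 1, false), (28, 1, false), (29, 1, false), (33, 0, false), (45, 0, false), (56, 1, false), (47, 0, false), (12, 1, false), (13, 1, false), (14, 1, false), (15, 1, false), (17, 1, false), (18, 1, false), (19, 1, false), (22, 0, false), (55, 0, false), (58, 0, false), (1, 1, false), (2, 1, false), (3, 1, false), (4, 1, false), (5, 1, false), (7, 1, false), (8, 1, false), (9, 1, false), (11, 0, false), (34, 0, false), (46, 1, false), (67, 1, false), (77, 0, false), (89, 0, false), (0, 0, false), (66, 0, false), (23, 0, false), (36, 1, false), (12, 0, false), (26,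 1, false), (88, 0, false), (1, 0, false), (16, 1, false), (99, 0, false), (6, 1, false), (100, 6, false), (100, 5, false), (100, 63, false), (100, 4, false), (100, 60, true), (100, 5, true), (100, 6, true), (100, 3, true), (100, 33, false), (100, 8, false), (100, 24, true), (100, 2, true), (100, 55, false), (100, 32, false), (100, 40, true), (100, 61, true), (100, 3, false), (100, 11, false), (100, 1, false), (100, 7, false), (100, 4, true)]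
noncomputable def y5v1_hc1T_c0 : ℕ → List Fi24.Gen := (nd 4 (nd 2 (nd 1 (lf [.l]) (lf [.k])) (nd 3 (lf [.a]) (lf [.b]))) (nd 6 (nd 5 (lf [.c]) (lf [.d])) (nd 7 (lf [.e]) (nd 8 (lf [.f]) (lf [.h])))))
noncomputable def y5v1_hc1T : ℕ → List Fi24.Gen := y5v1_hc1T_c0
noncomputable def y5v1_hc2T_c0 : ℕ → List Fi24.Gen := (nd 4 (nd 2 (nd 1 (lf []) (lf [])) (nd 3 (lf []) (lf []))) (nd 6 (nd 5 (lf []) (lf [])) (nd 7 (lf []) (nd 8 (lf []) (lf [])))))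
noncomputable def y5v1_hc2T : ℕ → List Fi24.Gen := y5v1_hc2T_c0

noncomputable def y5v1_rd : RData Fi24.Gen := ⟨wrapRow 39106 y5v1_rrowT, 39106, 28431, fi24_gi, fi24_gof, fi24_gens, circTab 123 y5v1_circT, circTab 9 y5v1_hc1T, circTab 9 y5v1_hc2T, 3⟩
noncomputable def y5v1_rf (p : ℕ) : Bool := y5v1_rd.chk p
def y5v1_rsw : List (List Fi24.Gen) := [[.l], [.k], [.a], [.b], [.c], [.d], [.e], [.f], [.h]]

end Cfsg.Agent.H35
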